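import Cfsg.Agent.Lib.Helper6.LB1
import Cfsg.Agent.Lib.Helper6.TCD.Fi22aL.Lv
set_option autoImplicit false
set_option maxRecDepth 1000000
set_option Elab.async false
open Cfsg.Agent.Lib.Helper6.TC
namespace Cfsg.Agent.Lib.Helper6.TCD.Fi22aL
open Cfsg.Agent.Lib.Helper6.TCD.Fi22a
theorem chkOrbL0 : chkOrb labL0 rnkL0 mvL0 0 3510 = true := by decide +kernel
theorem cntL0 : cntLab labL0 1 3510 = 3510 := by decide +kernel
theorem chkOrbL1 : chkOrb labL1 rnkL1 mvL1 1 3510 = true := by decide +kernel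
theorem cntL1 : cntLab labL1 1 3510 = 2816 := by decide +kernel
theorem fixL1_0_0 : Nat.beq (WL1_0 0) 0 = true := by decide +kernel
theorem fixL1_1_0 : Nat.beq (WL1_1 0) 0 = true := by decide +kernel
theorem fixL1_2_0 : Nat.beq (WL1_2 0) 0 = true := by decide +kernel
theorem fixL1_3_0 : Nat.beq (WL1_3 0) 0 = true := by decide +kernel
theorem fixL1_4_0 : Nat.beq (WL1_4 0) 0 = true := by decide +kernel
theorem fixL1_5_0 : Nat.beq (WL1_5 0) 0 = true := by decide +kernel
theorem fixL1_6_0 : Nat.beq (WL1_6 0) 0 = true := by decide +kernel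
theorem fixL1_7_0 : Nat.beq (WL1_7 0) 0 = true := by decide +kernel
theorem chkOrbL2 : chkOrb labL2 rnkL2 mvL2 192 3510 = true := by decide +kernel
theorem cntL2 : cntLab labL2 1 3510 = 1680 := by decide +kernel
theorem fixL2_0_0 : Nat.beq (WL2_0 0) 0 = true := by decide +kernel
theorem fixL2_0_1 : Nat.beq (WL2_0 1) 1 = true := by decide +kernel
theorem fixL2_1_0 : Nat.beq (WL2_1 0) 0 = true := by decide +kernel
theorem fixL2_1_1 : Nat.beq (WL2_1 1) 1 = true := by decide +kernel
theorem fixL2_2_0 : Nat.beq (WL2_2 0) 0 = true := by decide +kernel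
theorem fixL2_2_1 : Nat.beq (WL2_2 1) 1 = true := by decide +kernel
theorem fixL2_3_0 : Nat.beq (WL2_3 0) 0 = true := by decide +kernel
theorem fixL2_3_1 : Nat.beq (WL2_3 1) 1 = true := by decide +kernel
theorem fixL2_4_0 : Nat.beq (WL2_4 0) 0 = true := by decide +kernel
theorem fixL2_4_1 : Nat.beq (WL2_4 1) 1 = true := by decide +kernel
theorem fixL2_5_0 : Nat.beq (WL2_5 0) 0 = true := by decide +kernel
theorem fixL2_5_1 : Nat.beq (WL2_5 1) 1 = true := by decide +kernel
theorem chkOrbL3 : chkOrb labL3 rnkL3 mvL3 2128 3510 = true := by decide +kernel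
theorem cntL3 : cntLab labL3 1 3510 = 243 := by decide +kernel
theorem fixL3_0_0 : Nat.beq (WL3_0 0) 0 = true := by decide +kernel
theorem fixL3_0_1 : Nat.beq (WL3_0 1) 1 = true := by decide +kernel
theorem fixL3_0_2 : Nat.beq (WL3_0 192) 192 = true := by decide +kernel
theorem fixL3_1_0 : Nat.beq (WL3_1 0) 0 = true := by decide +kernel
theorem fixL3_1_1 : Nat.beq (WL3_1 1) 1 = true := by decide +kernel
theorem fixL3_1_2 : Nat.beq (WL3_1 192) 192 = true := by decide +kernel
theorem fixL3_2_0 : Nat.beq (WL3_2 0) 0 = true := by decide +kernel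
theorem fixL3_2_1 : Nat.beq (WL3_2 1) 1 = true := by decide +kernel
theorem fixL3_2_2 : Nat.beq (WL3_2 192) 192 = true := by decide +kernel
theorem fixL3_3_0 : Nat.beq (WL3_3 0) 0 = true := by decide +kernel
theorem fixL3_3_1 : Nat.beq (WL3_3 1) 1 = true := by decide +kernel
theorem fixL3_3_2 : Nat.beq (WL3_3 192) 192 = true := by decide +kernel
theorem chkOrbL4 : chkOrb labL4 rnkL4 mvL4 14 3510 = true := by decide +kernel
theorem cntL4 : cntLab labL4 1 3510 = 16 := by decide +kernel
theorem fixL4_0_0 : Nat.beq (WL4_0 0) 0 = true := by decide +kernel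
theorem fixL4_0_1 : Nat.beq (WL4_0 1) 1 = true := by decide +kernel
theorem fixL4_0_2 : Nat.beq (WL4_0 192) 192 = true := by decide +kernel
theorem fixL4_0_3 : Nat.beq (WL4_0 2128) 2128 = true := by decide +kernel
theorem fixL4_1_0 : Nat.beq (WL4_1 0) 0 = true := by decide +kernel
theorem fixL4_1_1 : Nat.beq (WL4_1 1) 1 = true := by decide +kernel
theorem fixL4_1_2 : Nat.beq (WL4_1 192) 192 = true := by decide +kernel
theorem fixL4_1_3 : Nat.beq (WL4_1 2128) 2128 = true := by decide +kernel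
theorem fixL4_2_0 : Nat.beq (WL4_2 0) 0 = true := by decide +kernel
theorem fixL4_2_1 : Nat.beq (WL4_2 1) 1 = true := by decide +kernel
theorem fixL4_2_2 : Nat.beq (WL4_2 192) 192 = true := by decide +kernel
theorem fixL4_2_3 : Nat.beq (WL4_2 2128) 2128 = true := by decide +kernel
end Cfsg.Agent.Lib.Helper6.TCD.Fi22aL
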