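import Cfsg.Agent.Lib.Helper6.LB2
import Cfsg.Agent.Lib.Helper6.TCD.Fi22aL.CL

set_option autoImplicit false
set_option maxRecDepth 100000
set_option linter.unusedSimpArgs false

namespace Cfsg.Agent.Lib.Helper6.TCD.Fi22aL
open Cfsg.Agent.Lib.Helper6.TC Cfsg.Agent.Lib.Helper6.TCD.Fi22a

theorem px_c0 (p : ℕ) : px 0 p = P0 p := rfl
theorem px_c1 (p : ℕ) : px 1 p = P1 p := rfl
theorem px_c2 (p : ℕ) : px 2 p = P2 p := rfl
theorem px_c3 (p : ℕ) : px 3 p = P3 p := rfl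
theorem px_c4 (p : ℕ) : px 4 p = P4 p := rfl
theorem px_c5 (p : ℕ) : px 5 p = P5 p := rfl
theorem px_c6 (p : ℕ) : px 6 p = P6 p := rfl
theorem px_c7 (p : ℕ) : px 7 p = P7 p := rfl
theorem px_c8 (p : ℕ) : px 8 p = P8 p := rfl

theorem WL0_0_eq (p : ℕ) : WL0_0 p = wapp px [0] p := by
  simp only [wapp_cons, wapp_nil, px_c0, px_c1, px_c2, px_c3, px_c4, px_c5, px_c6, px_c7, px_c8]
  rfl

theorem WL0_1_eq (p : ℕ) : WL0_1 p = wapp px [1] p := by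
  simp only [wapp_cons, wapp_nil, px_c0, px_c1, px_c2, px_c3, px_c4, px_c5, px_c6, px_c7, px_c8]
  rfl

theorem WL0_2_eq (p : ℕ) : WL0_2 p = wapp px [2] p := by
  simp only [wapp_cons, wapp_nil, px_c0, px_c1, px_c2, px_c3, px_c4, px_c5, px_c6, px_c7, px_c8]
  rfl

theorem WL0_3_eq (p : ℕ) : WL0_3 p = wapp px [3] p := by
  simp only [wapp_cons, wapp_nil, px_c0, px_c1, px_c2, px_c3, px_c4, px_c5, px_c6, px_c7, px_c8]
  rfl

theorem WL0_4_eq (p : ℕ) : WL0_4 p = wapp px [4] p := by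
  simp only [wapp_cons, wapp_nil, px_c0, px_c1, px_c2, px_c3, px_c4, px_c5, px_c6, px_c7, px_c8]
  rfl

theorem WL0_5_eq (p : ℕ) : WL0_5 p = wapp px [5] p := by
  simp only [wapp_cons, wapp_nil, px_c0, px_c1, px_c2, px_c3, px_c4, px_c5, px_c6, px_c7, px_c8]
  rfl

theorem WL0_6_eq (p : ℕ) : WL0_6 p = wapp px [6] p := by
  simp only [wapp_cons, wapp_nil, px_c0, px_c1, px_c2, px_c3, px_c4, px_c5, px_c6, px_c7, px_c8]
  rfl

theorem WL0_7_eq (p : ℕ) : WL0_7 p = wapp px [7] p := by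
  simp only [wapp_cons, wapp_nil, px_c0, px_c1, px_c2, px_c3, px_c4, px_c5, px_c6, px_c7, px_c8]
  rfl

theorem WL0_8_eq (p : ℕ) : WL0_8 p = wapp px [8] p := by
  simp only [wapp_cons, wapp_nil, px_c0, px_c1, px_c2, px_c3, px_c4, px_c5, px_c6, px_c7, px_c8]
  rfl

theorem hselL0_mem : ∀ k p, ∃ w ∈ wsL0, hselL0 k p = wapp px w p := by
  intro k p
  match k with
  | 0 => exact ⟨_, List.getElem_mem (l := wsL0) (n := 0) (by decide), WL0_0_eq p⟩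
  | 1 => exact ⟨_, List.getElem_mem (l := wsL0) (n := 1) (by decide), WL0_1_eq p⟩
  | 2 => exact ⟨_, List.getElem_mem (l := wsL0) (n := 2) (by decide), WL0_2_eq p⟩
  | 3 => exact ⟨_, List.getElem_mem (l := wsL0) (n := 3) (by decide), WL0_3_eq p⟩
  | 4 => exact ⟨_, List.getElem_mem (l := wsL0) (n := 4) (by decide), WL0_4_eq p⟩
  | 5 => exact ⟨_, List.getElem_mem (l := wsL0) (n := 5) (by decide), WL0_5_eq p⟩
  | 6 => exact ⟨_, List.getElem_mem (l := wsL0) (n := 6) (by decide), WL0_6_eq p⟩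
  | 7 => exact ⟨_, List.getElem_mem (l := wsL0) (n := 7) (by decide), WL0_7_eq p⟩
  | (k + 8) => exact ⟨_, List.getElem_mem (l := wsL0) (n := 8) (by decide), WL0_8_eq p⟩

theorem hwsL0 : ∀ w ∈ wsL0, (∀ c ∈ w, c < 9) ∧ ∀ b ∈ ([] : List (Fin 3510)), wapp px w b.val = b.val := by
  intro w hw
  simp only [wsL0, List.mem_cons, List.mem_nil_iff, or_false] at hw
  rcases hw with rfl | rfl | rfl | rfl | rfl | rfl | rfl | rfl | rfl
  · refine ⟨by decide, ?_⟩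
    intro b hb
    exact absurd hb List.not_mem_nil
  · refine ⟨by decide, ?_⟩
    intro b hb
    exact absurd hb List.not_mem_nil
  · refine ⟨by decide, ?_⟩
    intro b hb
    exact absurd hb List.not_mem_nil
  · refine ⟨by decide, ?_⟩
    intro b hb
    exact absurd hb List.not_mem_nil
  · refine ⟨by decide, ?_⟩
    intro b hb
    exact absurd hb List.not_mem_nil
  · refine ⟨by decide, ?_⟩
    intro b hb
    exact absurd hb List.not_mem_nil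
  · refine ⟨by decide, ?_⟩
    intro b hb
    exact absurd hb List.not_mem_nil
  · refine ⟨by decide, ?_⟩
    intro b hb
    exact absurd hb List.not_mem_nil
  · refine ⟨by decide, ?_⟩
    intro b hb
    exact absurd hb List.not_mem_nil

theorem WL1_0_eq (p : ℕ) : WL1_0 p = wapp px [2] p := by
  simp only [wapp_cons, wapp_nil, px_c0, px_c1, px_c2, px_c3, px_c4, px_c5, px_c6, px_c7, px_c8]
  rfl

theorem WL1_1_eq (p : ℕ) : WL1_1 p = wapp px [3] p := by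
  simp only [wapp_cons, wapp_nil, px_c0, px_c1, px_c2, px_c3, px_c4, px_c5, px_c6, px_c7, px_c8]
  rfl

theorem WL1_2_eq (p : ℕ) : WL1_2 p = wapp px [4] p := by
  simp only [wapp_cons, wapp_nil, px_c0, px_c1, px_c2, px_c3, px_c4, px_c5, px_c6, px_c7, px_c8]
  rfl

theorem WL1_3_eq (p : ℕ) : WL1_3 p = wapp px [5] p := by
  simp only [wapp_cons, wapp_nil, px_c0, px_c1, px_c2, px_c3, px_c4, px_c5, px_c6, px_c7, px_c8]
  rfl

theorem WL1_4_eq (p : ℕ) : WL1_4 p = wapp px [6] p := by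
  simp only [wapp_cons, wapp_nil, px_c0, px_c1, px_c2, px_c3, px_c4, px_c5, px_c6, px_c7, px_c8]
  rfl

theorem WL1_5_eq (p : ℕ) : WL1_5 p = wapp px [7] p := by
  simp only [wapp_cons, wapp_nil, px_c0, px_c1, px_c2, px_c3, px_c4, px_c5, px_c6, px_c7, px_c8]
  rfl

theorem WL1_6_eq (p : ℕ) : WL1_6 p = wapp px [8] p := by
  simp only [wapp_cons, wapp_nil, px_c0, px_c1, px_c2, px_c3, px_c4, px_c5, px_c6, px_c7, px_c8]
  rfl

theorem WL1_7_eq (p : ℕ) : WL1_7 p = wapp px [1, 0, 2, 1, 3, 2, 4, 3, 7, 3, 4, 2, 3, 1, 2, 0, 1] p := by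
  simp only [wapp_cons, wapp_nil, px_c0, px_c1, px_c2, px_c3, px_c4, px_c5, px_c6, px_c7, px_c8]
  rfl

theorem hselL1_mem : ∀ k p, ∃ w ∈ wsL1, hselL1 k p = wapp px w p := by
  intro k p
  match k with
  | 0 => exact ⟨_, List.getElem_mem (l := wsL1) (n := 0) (by decide), WL1_0_eq p⟩
  | 1 => exact ⟨_, List.getElem_mem (l := wsL1) (n := 1) (by decide), WL1_1_eq p⟩
  | 2 => exact ⟨_, List.getElem_mem (l := wsL1) (n := 2) (by decide), WL1_2_eq p⟩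
  | 3 => exact ⟨_, List.getElem_mem (l := wsL1) (n := 3) (by decide), WL1_3_eq p⟩
  | 4 => exact ⟨_, List.getElem_mem (l := wsL1) (n := 4) (by decide), WL1_4_eq p⟩
  | 5 => exact ⟨_, List.getElem_mem (l := wsL1) (n := 5) (by decide), WL1_5_eq p⟩
  | 6 => exact ⟨_, List.getElem_mem (l := wsL1) (n := 6) (by decide), WL1_6_eq p⟩
  | (k + 7) => exact ⟨_, List.getElem_mem (l := wsL1) (n := 7) (by decide), WL1_7_eq p⟩

theorem hwsL1 : ∀ w ∈ wsL1, (∀ c ∈ w, c < 9) ∧ ∀ b ∈ ([⟨0, by decide⟩] : List (Fin 3510)), wapp px w b.val = b.val := by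
  intro w hw
  simp only [wsL1, List.mem_cons, List.mem_nil_iff, or_false] at hw
  rcases hw with rfl | rfl | rfl | rfl | rfl | rfl | rfl | rfl
  · refine ⟨by decide, ?_⟩
    intro b hb
    simp only [List.mem_cons, List.mem_nil_iff, or_false] at hb
    rcases hb with rfl
    · rw [← WL1_0_eq]; exact Nat.eq_of_beq_eq_true fixL1_0_0
  · refine ⟨by decide, ?_⟩
    intro b hb
    simp only [List.mem_cons, List.mem_nil_iff, or_false] at hb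
    rcases hb with rfl
    · rw [← WL1_1_eq]; exact Nat.eq_of_beq_eq_true fixL1_1_0
  · refine ⟨by decide, ?_⟩
    intro b hb
    simp only [List.mem_cons, List.mem_nil_iff, or_false] at hb
    rcases hb with rfl
    · rw [← WL1_2_eq]; exact Nat.eq_of_beq_eq_true fixL1_2_0
  · refine ⟨by decide, ?_⟩
    intro b hb
    simp only [List.mem_cons, List.mem_nil_iff, or_false] at hb
    rcases hb with rfl
    · rw [← WL1_3_eq]; exact Nat.eq_of_beq_eq_true fixL1_3_0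
  · refine ⟨by decide, ?_⟩
    intro b hb
    simp only [List.mem_cons, List.mem_nil_iff, or_false] at hb
    rcases hb with rfl
    · rw [← WL1_4_eq]; exact Nat.eq_of_beq_eq_true fixL1_4_0
  · refine ⟨by decide, ?_⟩
    intro b hb
    simp only [List.mem_cons, List.mem_nil_iff, or_false] at hb
    rcases hb with rfl
    · rw [← WL1_5_eq]; exact Nat.eq_of_beq_eq_true fixL1_5_0
  · refine ⟨by decide, ?_⟩
    intro b hb
    simp only [List.mem_cons, List.mem_nil_iff, or_false] at hb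
    rcases hb with rfl
    · rw [← WL1_6_eq]; exact Nat.eq_of_beq_eq_true fixL1_6_0
  · refine ⟨by decide, ?_⟩
    intro b hb
    simp only [List.mem_cons, List.mem_nil_iff, or_false] at hb
    rcases hb with rfl
    · rw [← WL1_7_eq]; exact Nat.eq_of_beq_eq_true fixL1_7_0

theorem WL2_0_eq (p : ℕ) : WL2_0 p = wapp px [3] p := by
  simp only [wapp_cons, wapp_nil, px_c0, px_c1, px_c2, px_c3, px_c4, px_c5, px_c6, px_c7, px_c8]
  rfl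

theorem WL2_1_eq (p : ℕ) : WL2_1 p = wapp px [5] p := by
  simp only [wapp_cons, wapp_nil, px_c0, px_c1, px_c2, px_c3, px_c4, px_c5, px_c6, px_c7, px_c8]
  rfl

theorem WL2_2_eq (p : ℕ) : WL2_2 p = wapp px [6] p := by
  simp only [wapp_cons, wapp_nil, px_c0, px_c1, px_c2, px_c3, px_c4, px_c5, px_c6, px_c7, px_c8]
  rfl

theorem WL2_3_eq (p : ℕ) : WL2_3 p = wapp px [7] p := by
  simp only [wapp_cons, wapp_nil, px_c0, px_c1, px_c2, px_c3, px_c4, px_c5, px_c6, px_c7, px_c8]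
  rfl

theorem WL2_4_eq (p : ℕ) : WL2_4 p = wapp px [8] p := by
  simp only [wapp_cons, wapp_nil, px_c0, px_c1, px_c2, px_c3, px_c4, px_c5, px_c6, px_c7, px_c8]
  rfl

theorem WL2_5_eq (p : ℕ) : WL2_5 p = wapp px [2, 3, 4, 5, 1, 0, 2, 1, 3, 2, 4, 3, 7, 3, 4, 2, 3, 1, 2, 0, 1, 5, 4, 3, 2] p := by
  simp only [wapp_cons, wapp_nil, px_c0, px_c1, px_c2, px_c3, px_c4, px_c5, px_c6, px_c7, px_c8]
  rfl

theorem hselL2_mem : ∀ k p, ∃ w ∈ wsL2, hselL2 k p = wapp px w p := by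
  intro k p
  match k with
  | 0 => exact ⟨_, List.getElem_mem (l := wsL2) (n := 0) (by decide), WL2_0_eq p⟩
  | 1 => exact ⟨_, List.getElem_mem (l := wsL2) (n := 1) (by decide), WL2_1_eq p⟩
  | 2 => exact ⟨_, List.getElem_mem (l := wsL2) (n := 2) (by decide), WL2_2_eq p⟩
  | 3 => exact ⟨_, List.getElem_mem (l := wsL2) (n := 3) (by decide), WL2_3_eq p⟩
  | 4 => exact ⟨_, List.getElem_mem (l := wsL2) (n := 4) (by decide), WL2_4_eq p⟩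
  | (k + 5) => exact ⟨_, List.getElem_mem (l := wsL2) (n := 5) (by decide), WL2_5_eq p⟩

theorem hwsL2 : ∀ w ∈ wsL2, (∀ c ∈ w, c < 9) ∧ ∀ b ∈ ([⟨1, by decide⟩, ⟨0, by decide⟩] : List (Fin 3510)), wapp px w b.val = b.val := by
  intro w hw
  simp only [wsL2, List.mem_cons, List.mem_nil_iff, or_false] at hw
  rcases hw with rfl | rfl | rfl | rfl | rfl | rfl
  · refine ⟨by decide, ?_⟩
    intro b hb
    simp only [List.mem_cons, List.mem_nil_iff, or_false] at hb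
    rcases hb with rfl | rfl
    · rw [← WL2_0_eq]; exact Nat.eq_of_beq_eq_true fixL2_0_1
    · rw [← WL2_0_eq]; exact Nat.eq_of_beq_eq_true fixL2_0_0
  · refine ⟨by decide, ?_⟩
    intro b hb
    simp only [List.mem_cons, List.mem_nil_iff, or_false] at hb
    rcases hb with rfl | rfl
    · rw [← WL2_1_eq]; exact Nat.eq_of_beq_eq_true fixL2_1_1
    · rw [← WL2_1_eq]; exact Nat.eq_of_beq_eq_true fixL2_1_0
  · refine ⟨by decide, ?_⟩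
    intro b hb
    simp only [List.mem_cons, List.mem_nil_iff, or_false] at hb
    rcases hb with rfl | rfl
    · rw [← WL2_2_eq]; exact Nat.eq_of_beq_eq_true fixL2_2_1
    · rw [← WL2_2_eq]; exact Nat.eq_of_beq_eq_true fixL2_2_0
  · refine ⟨by decide, ?_⟩
    intro b hb
    simp only [List.mem_cons, List.mem_nil_iff, or_false] at hb
    rcases hb with rfl | rfl
    · rw [← WL2_3_eq]; exact Nat.eq_of_beq_eq_true fixL2_3_1
    · rw [← WL2_3_eq]; exact Nat.eq_of_beq_eq_true fixL2_3_0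
  · refine ⟨by decide, ?_⟩
    intro b hb
    simp only [List.mem_cons, List.mem_nil_iff, or_false] at hb
    rcases hb with rfl | rfl
    · rw [← WL2_4_eq]; exact Nat.eq_of_beq_eq_true fixL2_4_1
    · rw [← WL2_4_eq]; exact Nat.eq_of_beq_eq_true fixL2_4_0
  · refine ⟨by decide, ?_⟩
    intro b hb
    simp only [List.mem_cons, List.mem_nil_iff, or_false] at hb
    rcases hb with rfl | rfl
    · rw [← WL2_5_eq]; exact Nat.eq_of_beq_eq_true fixL2_5_1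
    · rw [← WL2_5_eq]; exact Nat.eq_of_beq_eq_true fixL2_5_0

theorem WL3_0_eq (p : ℕ) : WL3_0 p = wapp px [5] p := by
  simp only [wapp_cons, wapp_nil, px_c0, px_c1, px_c2, px_c3, px_c4, px_c5, px_c6, px_c7, px_c8]
  rfl

theorem WL3_1_eq (p : ℕ) : WL3_1 p = wapp px [8] p := by
  simp only [wapp_cons, wapp_nil, px_c0, px_c1, px_c2, px_c3, px_c4, px_c5, px_c6, px_c7, px_c8]
  rfl

theorem WL3_2_eq (p : ℕ) : WL3_2 p = wapp px [6, 2, 3, 4, 5, 1, 0, 2, 1, 3, 2, 4, 3, 7, 3, 4, 2, 3, 1, 2, 0, 1, 5, 4, 3, 2, 7, 8, 2, 3, 4, 5, 1, 0, 2, 1, 3, 2, 4, 3, 7, 3, 4, 2, 3, 1, 2, 0, 1, 5, 4, 3, 2, 6, 3, 7, 2, 3, 4, 5, 1, 0, 2, 1, 3, 2, 4, 3, 7, 3, 4, 2, 3, 1, 2, 0, 1, 5, 4, 3, 2, 8, 7, 3] p := by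
  simp only [wapp_cons, wapp_nil, px_c0, px_c1, px_c2, px_c3, px_c4, px_c5, px_c6, px_c7, px_c8]
  rfl

theorem WL3_3_eq (p : ℕ) : WL3_3 p = wapp px [6, 2, 3, 4, 5, 1, 0, 2, 1, 3, 2, 4, 3, 7, 3, 4, 2, 3, 1, 2, 0, 1, 5, 4, 3, 2, 8, 7, 2, 3, 4, 5, 1, 0, 2, 1, 3, 2, 4, 3, 7, 3, 4, 2, 3, 1, 2, 0, 1, 5, 4, 3, 2, 6, 3, 7, 8, 2, 3, 4, 5, 1, 0, 2, 1, 3, 2, 4, 3, 7, 3, 4, 2, 3, 1, 2, 0, 1, 5, 4, 3, 2, 7, 3] p := by
  simp only [wapp_cons, wapp_nil, px_c0, px_c1, px_c2, px_c3, px_c4, px_c5, px_c6, px_c7, px_c8]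
  rfl

theorem hselL3_mem : ∀ k p, ∃ w ∈ wsL3, hselL3 k p = wapp px w p := by
  intro k p
  match k with
  | 0 => exact ⟨_, List.getElem_mem (l := wsL3) (n := 0) (by decide), WL3_0_eq p⟩
  | 1 => exact ⟨_, List.getElem_mem (l := wsL3) (n := 1) (by decide), WL3_1_eq p⟩
  | 2 => exact ⟨_, List.getElem_mem (l := wsL3) (n := 2) (by decide), WL3_2_eq p⟩
  | (k + 3) => exact ⟨_, List.getElem_mem (l := wsL3) (n := 3) (by decide), WL3_3_eq p⟩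

theorem hwsL3 : ∀ w ∈ wsL3, (∀ c ∈ w, c < 9) ∧ ∀ b ∈ ([⟨192, by decide⟩, ⟨1, by decide⟩, ⟨0, by decide⟩] : List (Fin 3510)), wapp px w b.val = b.val := by
  intro w hw
  simp only [wsL3, List.mem_cons, List.mem_nil_iff, or_false] at hw
  rcases hw with rfl | rfl | rfl | rfl
  · refine ⟨by decide, ?_⟩
    intro b hb
    simp only [List.mem_cons, List.mem_nil_iff, or_false] at hb
    rcases hb with rfl | rfl | rfl
    · rw [← WL3_0_eq]; exact Nat.eq_of_beq_eq_true fixL3_0_2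
    · rw [← WL3_0_eq]; exact Nat.eq_of_beq_eq_true fixL3_0_1
    · rw [← WL3_0_eq]; exact Nat.eq_of_beq_eq_true fixL3_0_0
  · refine ⟨by decide, ?_⟩
    intro b hb
    simp only [List.mem_cons, List.mem_nil_iff, or_false] at hb
    rcases hb with rfl | rfl | rfl
    · rw [← WL3_1_eq]; exact Nat.eq_of_beq_eq_true fixL3_1_2
    · rw [← WL3_1_eq]; exact Nat.eq_of_beq_eq_true fixL3_1_1
    · rw [← WL3_1_eq]; exact Nat.eq_of_beq_eq_true fixL3_1_0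
  · refine ⟨by decide, ?_⟩
    intro b hb
    simp only [List.mem_cons, List.mem_nil_iff, or_false] at hb
    rcases hb with rfl | rfl | rfl
    · rw [← WL3_2_eq]; exact Nat.eq_of_beq_eq_true fixL3_2_2
    · rw [← WL3_2_eq]; exact Nat.eq_of_beq_eq_true fixL3_2_1
    · rw [← WL3_2_eq]; exact Nat.eq_of_beq_eq_true fixL3_2_0
  · refine ⟨by decide, ?_⟩
    intro b hb
    simp only [List.mem_cons, List.mem_nil_iff, or_false] at hb
    rcases hb with rfl | rfl | rfl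
    · rw [← WL3_3_eq]; exact Nat.eq_of_beq_eq_true fixL3_3_2
    · rw [← WL3_3_eq]; exact Nat.eq_of_beq_eq_true fixL3_3_1
    · rw [← WL3_3_eq]; exact Nat.eq_of_beq_eq_true fixL3_3_0

theorem WL4_0_eq (p : ℕ) : WL4_0 p = wapp px [8] p := by
  simp only [wapp_cons, wapp_nil, px_c0, px_c1, px_c2, px_c3, px_c4, px_c5, px_c6, px_c7, px_c8]
  rfl

theorem WL4_1_eq (p : ℕ) : WL4_1 p = wapp px [3, 7, 2, 3, 4, 5, 1, 0, 2, 1, 3, 2, 4, 3, 7, 3, 4, 2, 3, 1, 2, 0, 1, 5, 4, 3, 2, 8, 7, 3, 6, 2, 3, 4, 5, 1, 0, 2, 1, 3, 2, 4, 3, 7, 3, 4, 2, 3, 1, 2, 0, 1, 5, 4, 3, 2, 7, 8, 2, 3, 4, 5, 1, 0, 2, 1, 3, 2, 4, 3, 7, 3, 4, 2, 3, 1, 2, 0, 1, 5, 4, 3, 2, 6, 5, 3, 7, 8, 2, 3, 4, 5, 1, 0, 2, 1, 3, 2, 4, 3, 7, 3, 4, 2, 3, 1, 2, 0, 1, 5, 4, 3, 2, 7, 3, 6, 2, 3, 4, 5, 1, 0, 2, 1, 3, 2, 4, 3, 7, 3, 4, 2, 3, 1, 2, 0, 1, 5, 4, 3, 2, 8, 7, 2, 3, 4, 5, 1, 0, 2, 1, 3, 2, 4, 3, 7, 3, 4, 2,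 3, 1, 2, 0, 1, 5, 4, 3, 2, 6, 6, 2, 3, 4, 5, 1, 0, 2, 1, 3, 2, 4, 3, 7, 3, 4, 2, 3, 1, 2, 0, 1, 5, 4, 3, 2, 8, 7, 2, 3, 4, 5, 1, 0, 2, 1, 3, 2, 4, 3, 7, 3, 4, 2, 3, 1, 2, 0, 1, 5, 4, 3, 2, 6, 3, 7, 8, 2, 3, 4, 5, 1, 0, 2, 1, 3, 2, 4, 3, 7, 3, 4, 2, 3, 1, 2, 0, 1, 5, 4, 3, 2, 7, 3, 8, 6, 2, 3, 4, 5, 1, 0, 2, 1, 3, 2, 4, 3, 7, 3, 4, 2, 3, 1, 2, 0, 1, 5, 4, 3, 2, 8, 7, 2, 3, 4, 5, 1, 0, 2, 1, 3, 2, 4, 3, 7, 3, 4, 2, 3, 1, 2, 0, 1, 5, 4, 3, 2, 6, 3, 7, 8, 2, 3, 4, 5, 1, 0, 2, 1, 3, 2, 4, 3, 7, 3, 4, 2, 3, 1, 2, 0, 1, 5, 4, 3, 2, 7, 3] p := by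
  simp only [wapp_cons, wapp_nil, px_c0, px_c1, px_c2, px_c3, px_c4, px_c5, px_c6, px_c7, px_c8]
  rfl

theorem WL4_2_eq (p : ℕ) : WL4_2 p = wapp px [3, 7, 8, 2, 3, 4, 5, 1, 0, 2, 1, 3, 2, 4, 3, 7, 3, 4, 2, 3, 1, 2, 0, 1, 5, 4, 3, 2, 7, 3, 6, 2, 3, 4, 5, 1, 0, 2, 1, 3, 2, 4, 3, 7, 3, 4, 2, 3, 1, 2, 0, 1, 5, 4, 3, 2, 8, 7, 2, 3, 4, 5, 1, 0, 2, 1, 3, 2, 4, 3, 7, 3, 4, 2, 3, 1, 2, 0, 1, 5, 4, 3, 2, 6, 3, 7, 2, 3, 4, 5, 1, 0, 2, 1, 3, 2, 4, 3, 7, 3, 4, 2, 3, 1, 2, 0, 1, 5, 4, 3, 2, 8, 7, 3, 6, 2, 3, 4, 5, 1, 0, 2, 1, 3, 2, 4, 3, 7, 3, 4, 2, 3, 1, 2, 0, 1, 5, 4, 3, 2, 7, 8, 2, 3, 4, 5, 1, 0, 2, 1, 3, 2, 4, 3, 7, 3, 4, 2, 3, 1, 2, 0, 1, 5, 4, 3, 2, 6, 8, 6, 2, 3, 4, 5, 1, 0, 2, 1, 3, 2, 4, 3, 7, 3, 4, 2, 3, 1, 2, 0, 1, 5, 4, 3, 2, 7, 8, 2, 3, 4, 5, 1, 0, 2, 1, 3, 2, 4, 3, 7, 3, 4, 2, 3, 1, 2, 0, 1, 5, 4, 3, 2, 6, 3, 7, 2, 3, 4, 5, 1, 0, 2, 1, 3, 2, 4, 3, 7, 3, 4,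 2, 3, 1, 2, 0, 1, 5, 4, 3, 2, 8, 7, 3, 5, 6, 2, 3, 4, 5, 1, 0, 2, 1, 3, 2, 4, 3, 7, 3, 4, 2, 3, 1, 2, 0, 1, 5, 4, 3, 2, 7, 8, 2, 3, 4, 5, 1, 0, 2, 1, 3, 2, 4, 3, 7, 3, 4, 2, 3, 1, 2, 0, 1, 5, 4, 3, 2, 6, 3, 7, 2, 3, 4, 5, 1, 0, 2, 1, 3, 2, 4, 3, 7, 3, 4, 2, 3, 1, 2, 0, 1, 5, 4, 3, 2, 8, 7, 3, 6, 2, 3, 4, 5, 1, 0, 2, 1, 3, 2, 4, 3, 7, 3, 4, 2, 3, 1, 2, 0, 1, 5, 4, 3, 2, 8, 7, 2, 3, 4, 5, 1, 0, 2, 1, 3, 2, 4, 3, 7, 3, 4, 2, 3, 1, 2, 0, 1, 5, 4, 3, 2, 6, 3, 7, 8, 2, 3, 4, 5, 1, 0, 2, 1, 3, 2, 4, 3, 7, 3, 4, 2, 3, 1, 2, 0, 1, 5, 4, 3, 2, 7, 3] p := by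
  simp only [wapp_cons, wapp_nil, px_c0, px_c1, px_c2, px_c3, px_c4, px_c5, px_c6, px_c7, px_c8]
  rfl

theorem hselL4_mem : ∀ k p, ∃ w ∈ wsL4, hselL4 k p = wapp px w p := by
  intro k p
  match k with
  | 0 => exact ⟨_, List.getElem_mem (l := wsL4) (n := 0) (by decide), WL4_0_eq p⟩
  | 1 => exact ⟨_, List.getElem_mem (l := wsL4) (n := 1) (by decide), WL4_1_eq p⟩
  | (k + 2) => exact ⟨_, List.getElem_mem (l := wsL4) (n := 2) (by decide), WL4_2_eq p⟩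

theorem hwsL4 : ∀ w ∈ wsL4, (∀ c ∈ w, c < 9) ∧ ∀ b ∈ ([⟨2128, by decide⟩, ⟨192, by decide⟩, ⟨1, by decide⟩, ⟨0, by decide⟩] : List (Fin 3510)), wapp px w b.val = b.val := by
  intro w hw
  simp only [wsL4, List.mem_cons, List.mem_nil_iff, or_false] at hw
  rcases hw with rfl | rfl | rfl
  · refine ⟨by decide, ?_⟩
    intro b hb
    simp only [List.mem_cons, List.mem_nil_iff, or_false] at hb
    rcases hb with rfl | rfl | rfl | rfl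
    · rw [← WL4_0_eq]; exact Nat.eq_of_beq_eq_true fixL4_0_3
    · rw [← WL4_0_eq]; exact Nat.eq_of_beq_eq_true fixL4_0_2
    · rw [← WL4_0_eq]; exact Nat.eq_of_beq_eq_true fixL4_0_1
    · rw [← WL4_0_eq]; exact Nat.eq_of_beq_eq_true fixL4_0_0
  · refine ⟨by decide, ?_⟩
    intro b hb
    simp only [List.mem_cons, List.mem_nil_iff, or_false] at hb
    rcases hb with rfl | rfl | rfl | rfl
    · rw [← WL4_1_eq]; exact Nat.eq_of_beq_eq_true fixL4_1_3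
    · rw [← WL4_1_eq]; exact Nat.eq_of_beq_eq_true fixL4_1_2
    · rw [← WL4_1_eq]; exact Nat.eq_of_beq_eq_true fixL4_1_1
    · rw [← WL4_1_eq]; exact Nat.eq_of_beq_eq_true fixL4_1_0
  · refine ⟨by decide, ?_⟩
    intro b hb
    simp only [List.mem_cons, List.mem_nil_iff, or_false] at hb
    rcases hb with rfl | rfl | rfl | rfl
    · rw [← WL4_2_eq]; exact Nat.eq_of_beq_eq_true fixL4_2_3
    · rw [← WL4_2_eq]; exact Nat.eq_of_beq_eq_true fixL4_2_2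
    · rw [← WL4_2_eq]; exact Nat.eq_of_beq_eq_true fixL4_2_1
    · rw [← WL4_2_eq]; exact Nat.eq_of_beq_eq_true fixL4_2_0

section
variable {Gen : Type*} {rels : Set (FreeGroup Gen)} {gc : ℕ → Gen × Bool}
variable {φ : PresentedGroup rels →* Equiv.Perm (Fin 3510)}

theorem lvl0 [Finite (PresentedGroup rels)]
    (hw : ∀ w, (∀ c ∈ w, c < 9) → ∀ p : Fin 3510,
      ((φ (PresentedGroup.mk rels (wordElt gc w)))⁻¹ p).val = wapp px w p.val) :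
    3510 * Nat.card (ptFix φ ([⟨0, by decide⟩] : List (Fin 3510))) ≤
      Nat.card (ptFix φ ([] : List (Fin 3510))) :=
  level_words hw ([] : List (Fin 3510)) (b := 0) (by decide) wsL0
    (chkOrb_spec chkOrbL0) hwsL0 (fun p => hselL0_mem _ p) cntL0

theorem lvl1 [Finite (PresentedGroup rels)]
    (hw : ∀ w, (∀ c ∈ w, c < 9) → ∀ p : Fin 3510,
      ((φ (PresentedGroup.mk rels (wordElt gc w)))⁻¹ p).val = wapp px w p.val) :
    2816 * Nat.card (ptFix φ ([⟨1, by decide⟩, ⟨0, by decide⟩] : List (Fin 3510))) ≤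
      Nat.card (ptFix φ ([⟨0, by decide⟩] : List (Fin 3510))) :=
  level_words hw ([⟨0, by decide⟩] : List (Fin 3510)) (b := 1) (by decide) wsL1
    (chkOrb_spec chkOrbL1) hwsL1 (fun p => hselL1_mem _ p) cntL1

theorem lvl2 [Finite (PresentedGroup rels)]
    (hw : ∀ w, (∀ c ∈ w, c < 9) → ∀ p : Fin 3510,
      ((φ (PresentedGroup.mk rels (wordElt gc w)))⁻¹ p).val = wapp px w p.val) :
    1680 * Nat.card (ptFix φ ([⟨192, by decide⟩, ⟨1, by decide⟩, ⟨0, by decide⟩] : List (Fin 3510))) ≤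
      Nat.card (ptFix φ ([⟨1, by decide⟩, ⟨0, by decide⟩] : List (Fin 3510))) :=
  level_words hw ([⟨1, by decide⟩, ⟨0, by decide⟩] : List (Fin 3510)) (b := 192) (by decide) wsL2
    (chkOrb_spec chkOrbL2) hwsL2 (fun p => hselL2_mem _ p) cntL2

theorem lvl3 [Finite (PresentedGroup rels)]
    (hw : ∀ w, (∀ c ∈ w, c < 9) → ∀ p : Fin 3510,
      ((φ (PresentedGroup.mk rels (wordElt gc w)))⁻¹ p).val = wapp px w p.val) :
    243 * Nat.card (ptFix φ ([⟨2128, by decide⟩, ⟨192, by decide⟩, ⟨1, by decide⟩, ⟨0, by decide⟩] : List (Fin 3510))) ≤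
      Nat.card (ptFix φ ([⟨192, by decide⟩, ⟨1, by decide⟩, ⟨0, by decide⟩] : List (Fin 3510))) :=
  level_words hw ([⟨192, by decide⟩, ⟨1, by decide⟩, ⟨0, by decide⟩] : List (Fin 3510)) (b := 2128) (by decide) wsL3
    (chkOrb_spec chkOrbL3) hwsL3 (fun p => hselL3_mem _ p) cntL3

theorem lvl4 [Finite (PresentedGroup rels)]
    (hw : ∀ w, (∀ c ∈ w, c < 9) → ∀ p : Fin 3510,
      ((φ (PresentedGroup.mk rels (wordElt gc w)))⁻¹ p).val = wapp px w p.val) :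
    16 * Nat.card (ptFix φ ([⟨14, by decide⟩, ⟨2128, by decide⟩, ⟨192, by decide⟩, ⟨1, by decide⟩, ⟨0, by decide⟩] : List (Fin 3510))) ≤
      Nat.card (ptFix φ ([⟨2128, by decide⟩, ⟨192, by decide⟩, ⟨1, by decide⟩, ⟨0, by decide⟩] : List (Fin 3510))) :=
  level_words hw ([⟨2128, by decide⟩, ⟨192, by decide⟩, ⟨1, by decide⟩, ⟨0, by decide⟩] : List (Fin 3510)) (b := 14) (by decide) wsL4
    (chkOrb_spec chkOrbL4) hwsL4 (fun p => hselL4_mem _ p) cntL4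

/-- the lower bound for the order from the chain of stabilisers -/
theorem chain_lb [Finite (PresentedGroup rels)]
    (hw : ∀ w, (∀ c ∈ w, c < 9) → ∀ p : Fin 3510,
      ((φ (PresentedGroup.mk rels (wordElt gc w)))⁻¹ p).val = wapp px w p.val) :
    64561751654400 * Nat.card (ptFix φ ([⟨14, by decide⟩, ⟨2128, by decide⟩, ⟨192, by decide⟩, ⟨1, by decide⟩, ⟨0, by decide⟩] : List (Fin 3510))) ≤ Nat.card (PresentedGroup rels) := by
  have h0 := lvl0 (φ := φ) hw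
  have h1 := lvl1 (φ := φ) hw
  have h2 := lvl2 (φ := φ) hw
  have h3 := lvl3 (φ := φ) hw
  have h4 := lvl4 (φ := φ) hw
  have e : Nat.card (ptFix φ ([] : List (Fin 3510))) = Nat.card (PresentedGroup rels) := Subgroup.card_top
  rw [e] at h0
  have hall := chain_step (chain_step (chain_step (chain_step (h0) h1) h2) h3) h4
  have e2 : 3510 * 2816 * 1680 * 243 * 16 = 64561751654400 := by norm_num
  rw [e2] at hall
  exact hall

end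

end Cfsg.Agent.Lib.Helper6.TCD.Fi22aL
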