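import Cfsg.Agent.Lib.Helper6.TC13
import Cfsg.Agent.Lib.Helper6.TCD.Fi22a.Par
set_option autoImplicit false
set_option maxRecDepth 1000000
set_option Elab.async false
open Cfsg.Agent.Lib.Helper6.TC
namespace Cfsg.Agent.Lib.Helper6.TCD.Fi22aL
open Cfsg.Agent.Lib.Helper6.TCD.Fi22a
noncomputable def XP (p : Nat) : Nat := P8 (P1 (P2 (P6 (P3 (P5 (P7 (P4 (P8 (P1 (P2 (P6 (P3 (P5 (P7 (P4 (P8 (P1 (P2 (P6 (P3 (P5 (P7 (P4 (P8 (P1 (P2 (P6 (P3 (P5 (P7 (P4 (P8 (P1 (P2 (P6 (P3 (P5 (P7 (P4 (P8 (P1 (P2 (P6 (P3 (P5 (P7 (P4 (P8 (P1 (P2 (P6 (P3 (P5 (P7 (P4 (P8 (P1 (P2 (P6 (P3 (P5 (P7 (P4 (P8 (P1 (P2 (P6 (P3 (P5 (P7 (P4 (P8 (P1 (P2 (P6 (P3 (P5 (P7 (P4 (P8 (P1 (P2 (P6 (P3 (P5 (P7 (P4 (P8 (P1 (P2 (P6 (P3 (P5 (P7 (P4 (P8 (P1 (P2 (P6 (P3 (P5 (P7 (P4 p)))))))))))))))))))))))))))))))))))))))))))))))))))))))))))))))))))))))))))))))))))))))))))))))))))))))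
noncomputable def WR (p : Nat) : Nat := P1 (P0 (P2 (P3 (P4 (P5 (P6 (P7 (P3 (P2 (P4 (P5 (P8 (P7 (P3 (P7 (P4 (P5 (P2 (P3 (P1 (P1 (P2 (P8 (P1 (P2 (P6 (P3 (P5 (P7 (P4 (P2 (P1 (P8 (P1 (P2 (P6 (P3 (P5 (P7 (P4 (P1 (P2 (P8 (P1 (P2 (P6 (P3 (P5 (P7 (P4 (P2 (P1 (P8 (P1 (P2 (P6 (P3 (P5 (P7 (P4 (P1 (P2 (P8 (P1 (P2 (P6 (P3 (P5 (P7 (P4 (P2 (P1 (P8 (P1 (P2 (P6 (P3 (P5 (P7 (P4 (P1 (P2 (P8 (P1 (P2 (P6 (P3 (P5 (P7 (P4 (P2 (P1 (P8 (P1 (P2 (P6 (P3 (P5 (P7 (P4 (P1 (P2 (P8 (P1 (P2 (P6 (P3 (P5 (P7 (P4 (P2 (P1 (P8 (P1 (P2 (P6 (P3 (P5 (P7 (P4 (P1 (P2 (P8 (P1 (P2 (P6 (P3 (P5 (P7 (P4 (P2 (P1 (P8 (P1 (P2 (P6 (P3 (P5 (P7 (P4 (P1 (P2 (P8 (P1 (P2 (P6 (P3 (P5 (P7 (P4 (P2 (P1 (P8 (P1 (P2 (P6 (P3 (P5 (P7 (P4 (P1 (P3 (P2 (P5 (P4 (P7 (P3 (P7 (P8 (P5 (P4 (P2 (P3 (P7 (P6 (P5 (P4 (P3 (P2 (P0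 (P1 p)))))))))))))))))))))))))))))))))))))))))))))))))))))))))))))))))))))))))))))))))))))))))))))))))))))))))))))))))))))))))))))))))))))))))))))))))))))))))))))))))))))))))))))))))))))
theorem chkXP0 : chkFix XP 0 1923 = true := by decide +kernel
theorem chkXP1 : chkFix XP 1923 1587 = true := by decide +kernel
theorem chkWR0 : chkEqF WR P0 0 1092 = true := by decide +kernel
theorem chkWR1 : chkEqF WR P0 1092 1092 = true := by decide +kernel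
theorem chkWR2 : chkEqF WR P0 2184 1092 = true := by decide +kernel
theorem chkWR3 : chkEqF WR P0 3276 234 = true := by decide +kernel
end Cfsg.Agent.Lib.Helper6.TCD.Fi22aL
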